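import Cfsg.Agent.Lib.Primitive62.Sharp

/-!
The subgroup generated by the derangements of a transitive group.
-/

set_option autoImplicit false
set_option linter.style.haveILetI false
set_option linter.unusedSectionVars false

namespace Cfsg.Agent.Lib.DerangementSubgroup

open MulAction
open scoped Pointwise

variable {G : Type*} [Group G] [Finite G]

/-- The set of derangements. -/
def derangementSet (G : Type*) [Group G] (Ω : Type*) [MulAction G Ω] : Set G :=
  {g : G | ∀ ω : Ω, g • ω ≠ ω}

/-- The subgroup generated by the derangements. -/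
def derangementClosure (G : Type*) [Group G] (Ω : Type*) [MulAction G Ω] : Subgroup G :=
  Subgroup.closure (derangementSet G Ω)

variable {Ω : Type*} [MulAction G Ω] [Finite Ω]

instance derangementClosure_normal : (derangementClosure G Ω).Normal := by
  haveI : (Subgroup.normalClosure (derangementSet G Ω)).Normal := Subgroup.normalClosure_normal
  have : derangementClosure G Ω = Subgroup.normalClosure (derangementSet G Ω) := by
    refine le_antisymm ((Subgroup.closure_le _).mpr Subgroup.subset_normalClosure) ?_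
    refine (Subgroup.closure_le _).mpr ?_
    intro x hx
    obtain ⟨a, ha, hax⟩ := Group.mem_conjugatesOfSet_iff.mp hx
    obtain ⟨c, rfl⟩ := isConj_iff.mp hax
    refine Subgroup.subset_closure fun ω hω => ha (c⁻¹ • ω) ?_
    rw [mul_smul, mul_smul] at hω
    exact eq_inv_smul_iff.mpr hω
  rw [this]; infer_instance

theorem smul_ne_of_notMem {g : G} (hg : g ∉ derangementClosure G Ω) : ∃ ω : Ω, g • ω = ω := by
  by_contra h
  push Not at h
  exact hg (Subgroup.subset_closure h)

/-- The derangements of a transitive group generate a transitive subgroup. -/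
theorem isPretransitive [FaithfulSMul G Ω] (htr : IsPretransitive G Ω) :
    IsPretransitive (derangementClosure G Ω) Ω := by
  classical
  haveI := htr
  rcases isEmpty_or_nonempty Ω with h | ⟨⟨α⟩⟩
  · exact ⟨fun x => isEmptyElim x⟩
  set D := derangementClosure G Ω
  rw [isPretransitive_iff_orbit_eq_univ α]
  by_contra hne
  set B := orbit D α with hB
  have hBb : IsBlock G B := IsBlock.orbit_of_normal α
  -- `G` acts transitively on the translates of the orbit
  let Bs : Type _ := orbit G B
  haveI : Nontrivial Bs := by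
    obtain ⟨β, hβ⟩ : ∃ β, β ∉ B := by
      by_contra h; push Not at h; exact hne (Set.eq_univ_of_forall h)
    obtain ⟨g, hg⟩ := exists_smul_eq G α β
    refine ⟨⟨⟨B, mem_orbit_self B⟩, ⟨g • B, g, rfl⟩, fun he => hβ ?_⟩⟩
    have he' : B = g • B := congrArg Subtype.val he
    rw [he', ← hg]
    exact Set.smul_mem_smul_set (mem_orbit_self α)
  haveI : Finite Bs := Set.finite_range _ |>.to_subtype
  obtain ⟨g, hg⟩ := Primitive62.exists_derangement G Bs
  have hgD : g ∈ D := by
    by_contra hgn
    obtain ⟨ω, hω⟩ := smul_ne_of_notMem hgn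
    obtain ⟨c, hc⟩ := exists_smul_eq G α ω
    refine hg ⟨c • B, c, rfl⟩ (Subtype.ext ?_)
    show g • c • B = c • B
    rw [smul_smul]
    have hmem : (c⁻¹ * (g * c)) • α ∈ B := by
      rw [mul_smul, mul_smul, hc, hω, ← hc, inv_smul_smul]; exact mem_orbit_self α
    rcases hBb.smul_eq_or_disjoint (c⁻¹ * (g * c)) with h | h
    · conv_rhs => rw [← h]
      rw [smul_smul, mul_inv_cancel_left]
    · exact absurd hmem (Set.disjoint_left.mp h (Set.smul_mem_smul_set (mem_orbit_self α)))
  refine hg ⟨B, mem_orbit_self B⟩ (Subtype.ext ?_)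
  show g • B = B
  rcases hBb.smul_eq_or_disjoint g with h | h
  · exact h
  · exact absurd (show g • α ∈ B from ⟨⟨g, hgD⟩, rfl⟩)
      (Set.disjoint_left.mp h (Set.smul_mem_smul_set (mem_orbit_self α)))

/-- In a finite group with a normal transitive subgroup `K`, if every element outside `K` fixes a
point then it fixes exactly one. -/
theorem fixedBy_eq_one {Ω' : Type*} [MulAction G Ω'] [Finite Ω'] [Nonempty Ω'] (K : Subgroup G)
    [IsPretransitive K Ω'] (h : ∀ g : G, g ∉ K → ∃ ω : Ω', g • ω = ω) {g : G} (hg : g ∉ K) :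
    Nat.card (fixedBy Ω' g) = 1 := by
  classical
  haveI : IsPretransitive G Ω' := ⟨fun a b => by
    obtain ⟨n, hn⟩ := exists_smul_eq K a b
    exact ⟨n, hn⟩⟩
  have := Fintype.ofFinite G
  have hG := Primitive62.sum_fixedBy G Ω'
  rw [Primitive62.card_orbits_eq_one, one_mul] at hG
  have hK := Primitive62.sum_fixedBy K Ω'
  rw [Primitive62.card_orbits_eq_one, one_mul] at hK
  have hK' : ∑ x ∈ Finset.univ.filter (fun x : G => x ∈ K), Nat.card (fixedBy Ω' x) = Nat.card K := by
    rw [Finset.sum_subtype (p := fun x : G => x ∈ K) _ (fun x => by simp) (fun x => Nat.card (fixedBy Ω' x))]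
    exact hK
  rw [← Finset.sum_filter_add_sum_filter_not Finset.univ (fun x : G => x ∈ K), hK'] at hG
  have hge : ∀ x ∈ Finset.univ.filter (fun x : G => ¬ x ∈ K), 1 ≤ Nat.card (fixedBy Ω' x) := by
    intro x hx
    obtain ⟨ω, hω⟩ := h x (Finset.mem_filter.mp hx).2
    haveI : Nonempty (fixedBy Ω' x) := ⟨⟨ω, hω⟩⟩
    exact Nat.card_pos
  have hcnt : Nat.card K + ∑ _x ∈ Finset.univ.filter (fun x : G => ¬ x ∈ K), 1 = Nat.card G := by
    rw [Nat.card_eq_fintype_card (α := K), Fintype.card_subtype, Nat.card_eq_fintype_card (α := G),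
      ← Finset.card_univ, Finset.card_eq_sum_ones, Finset.sum_filter_add_sum_filter_not,
      Finset.card_eq_sum_ones]
  have hpos : 1 ≤ Nat.card (fixedBy Ω' g) := hge g (Finset.mem_filter.mpr ⟨Finset.mem_univ _, hg⟩)
  by_contra hne
  have := Finset.sum_lt_sum hge ⟨g, Finset.mem_filter.mpr ⟨Finset.mem_univ _, hg⟩, by omega⟩
  omega

theorem card_fixedBy_eq_one [FaithfulSMul G Ω] [Nonempty Ω] (htr : IsPretransitive G Ω) {g : G}
    (hg : g ∉ derangementClosure G Ω) : Nat.card (fixedBy Ω g) = 1 :=
  haveI := isPretransitive (Ω := Ω) htr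
  fixedBy_eq_one _ (fun _ h => smul_ne_of_notMem h) hg

/-- An element of `G_α` outside `D` fixes only `α`. -/
theorem smul_ne_of_stabilizer [FaithfulSMul G Ω] (htr : IsPretransitive G Ω) {g : G}
    (hg : g ∉ derangementClosure G Ω) {a b : Ω} (ha : g • a = a) (hb : g • b = b) : a = b := by
  haveI : Nonempty Ω := ⟨a⟩
  obtain ⟨hsub, -⟩ := Nat.card_eq_one_iff_unique.mp (card_fixedBy_eq_one htr hg)
  exact congrArg Subtype.val (hsub.elim (⟨a, ha⟩ : fixedBy Ω g) ⟨b, hb⟩)

/-- If a transitive subgroup `D` contains every element of `G_a` fixing a second point, then a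
`G_a`-invariant set avoiding `a` has order divisible by the index of `D`. -/
theorem index_dvd_card {X : Type*} [MulAction G X] [Finite X] (D : Subgroup G) [D.Normal] (a : X)
    [IsPretransitive D X] (s : Set X) (ha : a ∉ s) (hs : ∀ g : G, g • a = a → ∀ x ∈ s, g • x ∈ s)
    (hD : ∀ g : G, g • a = a → ∀ x ∈ s, g • x = x → g ∈ D) : D.index ∣ Nat.card s := by
  classical
  set H := stabilizer G a
  have hindex : D.index = (D.subgroupOf H).index := by
    have htop : H ⊔ D = ⊤ := by
      refine eq_top_iff.mpr fun g _ => ?_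
      obtain ⟨d, hd⟩ := exists_smul_eq D a (g • a)
      have h1 : (d : G)⁻¹ * g ∈ H := by
        rw [mem_stabilizer_iff, mul_smul, ← (hd : (d : G) • a = g • a)]
        exact inv_smul_smul (d : G) a
      rw [show g = (d : G) * ((d : G)⁻¹ * g) by group]
      exact Subgroup.mul_mem _ (Subgroup.mem_sup_right d.2) (Subgroup.mem_sup_left h1)
    show D.index = D.relIndex H
    rw [← Subgroup.relIndex_sup_right, htop, Subgroup.relIndex_top_right]
  letI : MulAction H s :=
    { smul := fun h x => ⟨(h : G) • (x : X), hs h h.2 x x.2⟩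
      one_smul := fun x => Subtype.ext (one_smul G (x : X))
      mul_smul := fun g h x => Subtype.ext (mul_smul (g : G) (h : G) (x : X)) }
  have hstab : ∀ x : s, stabilizer H x ≤ D.subgroupOf H := fun x h hh =>
    Subgroup.mem_subgroupOf.mpr (hD h h.2 x x.2 (congrArg Subtype.val hh))
  haveI := Fintype.ofFinite s
  rw [Nat.card_eq_fintype_card, ← Finset.card_univ,
    Finset.card_eq_sum_card_fiberwise (f := fun x : s => (Quotient.mk'' x : orbitRel.Quotient H s))
      (t := Finset.univ.image fun x : s => (Quotient.mk'' x : orbitRel.Quotient H s))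
      (fun x hx => Finset.mem_image_of_mem _ hx)]
  refine Finset.dvd_sum fun c hc => ?_
  obtain ⟨x, -, rfl⟩ := Finset.mem_image.mp hc
  rw [hindex]
  have h1 : (D.subgroupOf H).index ∣ (stabilizer H x).index := Subgroup.index_dvd_of_le (hstab x)
  rw [index_stabilizer] at h1
  refine h1.trans (dvd_of_eq ?_)
  rw [← Set.ncard_coe_finset]
  congr 1
  ext y
  simp [Quotient.eq'', orbitRel_apply]

/-- The index of `D` divides `n - 1`. -/
theorem index_dvd_card_sub_one [FaithfulSMul G Ω] [Nonempty Ω] (htr : IsPretransitive G Ω) :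
    (derangementClosure G Ω).index ∣ Nat.card Ω - 1 := by
  haveI := isPretransitive (Ω := Ω) htr
  obtain ⟨α⟩ := (inferInstance : Nonempty Ω)
  have h := index_dvd_card (derangementClosure G Ω) α ({α}ᶜ : Set Ω) (by simp)
    (fun g hg x hx h1 => hx (smul_left_cancel g (h1.trans hg.symm)))
    (fun g hg x hx hgx => by
      by_contra hgD
      exact hx (smul_ne_of_stabilizer htr hgD hgx hg))
  rwa [Nat.card_coe_set_eq, Set.ncard_compl, Set.ncard_singleton] at h

end Cfsg.Agent.Lib.DerangementSubgroup
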